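import Groth.Agent.L24.Count.UnipScheme
import Groth.Agent.L25.Observable.Basic
import Groth.Agent.L25.ComodGMod
import Groth.Agent.L08.Basic
import Groth.Prelude.Def_ComodSub
import Groth.Prelude.Def_W4bk4grossh1223Act

/-! An invariant fraction of a domain under a connected unipotent group is a quotient of invariants. -/

set_option autoImplicit false
set_option backward.isDefEq.respectTransparency.types false
set_option linter.style.haveILetI false

universe u

open CategoryTheory MonoidalCategory CartesianMonoidalCategory MonObj AlgebraicGeometry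
open scoped TensorProduct
open WithConv

noncomputable section

namespace Groth.L15.UnipFrac

variable {k : Type u} [Field k]

/-- The `b` for which `f * b` is regular. -/
def frac {R : Type u} [CommRing R] [Algebra k R] (a₀ b₀ : R) : R →ₗ[k] R ⧸ Ideal.span {b₀} :=
  (Ideal.Quotient.mkₐ k (Ideal.span {b₀})).toLinearMap ∘ₗ LinearMap.mulLeft k a₀

theorem mem_ker_frac {R : Type u} [CommRing R] [Algebra k R] (a₀ b₀ b : R) :
    b ∈ LinearMap.ker (frac (k := k) a₀ b₀) ↔ ∃ a, a * b₀ = b * a₀ := by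
  show Ideal.Quotient.mk _ (a₀ * b) = 0 ↔ _
  rw [Ideal.Quotient.eq_zero_iff_mem, Ideal.mem_span_singleton']
  exact ⟨fun ⟨a, h⟩ => ⟨a, h.trans (mul_comm _ _)⟩, fun ⟨a, h⟩ => ⟨a, h.trans (mul_comm _ _)⟩⟩

theorem wmap_one_tmul {R B B' : Type u} [CommRing R] [Algebra k R] [CommRing B] [Algebra k B] [CommRing B']
    [Algebra k B'] (φ : B →ₐ[k] B') (r : R) :
    VecGrp.Wmap (M := R) φ ((1 : B) ⊗ₜ[k] r) = (1 : B') ⊗ₜ[k] r := by
  rw [VecGrp.Wmap_tmul, map_one]

theorem exists_invariant_frac [IsAlgClosed k] (H : Over (Spec (CommRingCat.of k))) [GrpObj H]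
    [IsAffine H.left] [Smooth H.hom] [ConnectedSpace H.left] (hH : Red.HasNoSubtorus k H)
    (R : Type u) [CommRing R] [IsDomain R] [Algebra k R] (ρ : VecGrp.GMod H R) (hρ : ρ.IsMult)
    (a₀ b₀ : R) (hb₀ : b₀ ≠ 0)
    (hinv : ∀ (B : Type u) [CommRing B] [Algebra k B] (h : VecGrp.pt k B ⟶ H),
      ρ.ρ B h ((1 : B) ⊗ₜ[k] a₀) * ((1 : B) ⊗ₜ[k] b₀) = ((1 : B) ⊗ₜ[k] a₀) * ρ.ρ B h ((1 : B) ⊗ₜ[k] b₀)) :
    ∃ a b : R, a ∈ ρ.fixedUnder (𝟙 H) ∧ b ∈ ρ.fixedUnder (𝟙 H) ∧ b ≠ 0 ∧ a * b₀ = b * a₀ := by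
  classical
  obtain ⟨A, _, _, ψ, hft, hred, hψ, hiso⟩ := Groth.L25.Observable.exists_chart H
  haveI := hiso
  haveI := hψ
  -- the coordinate ring is unipotent
  haveI : IsIso ψ.left := inferInstanceAs (IsIso ((Over.forget _).map ψ))
  haveI : Smooth (Groth.L25.Bridge.P k A).hom := by
    show Smooth (Groth.L25.Observable.Sp k A).hom
    rw [← Over.w (inv ψ)]
    haveI : IsIso (inv ψ).left := inferInstanceAs (IsIso ((Over.forget _).map (inv ψ)))
    haveI : Smooth (inv ψ).left := inferInstance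
    infer_instance
  haveI hc : ConnectedSpace (PrimeSpectrum A) :=
    (Scheme.homeoOfIso (asIso ψ.left)).surjective.connectedSpace (Homeomorph.continuous _)
  have hconn : ∀ e : A, IsIdempotentElem e → e = 0 ∨ e = 1 := fun e he => by
    rcases isClopen_iff.1 (PrimeSpectrum.isClopen_iff.2 ⟨e, he, rfl⟩ :
      IsClopen (PrimeSpectrum.basicOpen e : Set (PrimeSpectrum A))) with h | h
    · exact Or.inl (IsNilpotent.eq_zero ((PrimeSpectrum.basicOpen_eq_bot_iff e).1
        (TopologicalSpace.Opens.ext h)))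
    · refine Or.inr ?_
      have hu : IsUnit e := by
        by_contra hne
        obtain ⟨m, hm, hem⟩ := exists_max_ideal_of_mem_nonunits (mem_nonunits_iff.2 hne)
        have : (⟨m, hm.isPrime⟩ : PrimeSpectrum A) ∈ PrimeSpectrum.basicOpen e := by
          rw [← SetLike.mem_coe, h]; trivial
        exact this hem
      exact hu.mul_left_cancel (he.eq.trans (_root_.mul_one e).symm)
  haveI : ConnectedSpace (Groth.L25.Bridge.P k A).left := hc
  haveI : IsMonHom (asIso ψ).hom := hψ
  haveI : IsMonHom (inv ψ) := inferInstanceAs (IsMonHom (asIso ψ).inv)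
  have hU : HopfRep.IsUnipotent k A :=
    Groth.L24.Count.isUnipotent_of_noSubtorus hconn fun T _ j _ _ hT => hH T (j ≫ inv ψ) hT
  -- the coaction
  let m : VecGrp.GMod ((Spec (CommRingCat.of A)).asOver (Spec (CommRingCat.of k))) R :=
    { ρ := fun B _ _ => MonoidHom.mk' (fun g => ρ.ρ B (g ≫ inv ψ)) fun g g' => by
        rw [MonObj.mul_comp, map_mul]
      naturality := fun φ g x => by
        show VecGrp.Wmap φ (ρ.ρ _ (g ≫ inv ψ) x) = ρ.ρ _ ((VecGrp.ptMap φ ≫ g) ≫ inv ψ) _
        rw [Category.assoc]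
        exact ρ.naturality φ _ x }
  obtain ⟨δ, ⟨⟨h₁, h₂⟩, hδ⟩, -⟩ := Groth.L25.ComodGMod.exists_coact m
  letI cR : HopfRep.Comod k A R := ⟨δ, h₁, h₂⟩
  let u : VecGrp.pt k A ⟶ (Spec (CommRingCat.of A)).asOver (Spec (CommRingCat.of k)) :=
    Spec.mapMulEquiv (toConv (AlgHom.id k A))
  have hu : ∀ x : R, ρ.ρ A (u ≫ inv ψ) ((1 : A) ⊗ₜ[k] x) = TensorProduct.comm k R A (δ x) := fun x => by
    have := hδ A u x
    rw [show Groth.L25.ComodGMod.hom u = toConv (AlgHom.id k A) from MulEquiv.symm_apply_apply _ _,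
      Groth.L25.ComodGMod.T_apply] at this
    refine this.trans ?_
    simp
  let V : Submodule k R := LinearMap.ker (frac (k := k) a₀ b₀)
  have hstab : ∀ b ∈ V, δ b ∈ LinearMap.range (V.subtype.rTensor A) := by
    intro b hb
    obtain ⟨a, ha⟩ := (mem_ker_frac a₀ b₀ b).1 hb
    let E := ρ.ρ A (u ≫ inv ψ)
    let o : R →ₐ[k] A ⊗[k] R := Algebra.TensorProduct.includeRight
    have hE : ∀ x y, E (x * y) = E x * E y := (hρ A _).1
    have hreg : IsLeftRegular ((o b₀ : A ⊗[k] R)) := by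
      intro x y hxy
      have hl : Function.Injective ((LinearMap.mulLeft k b₀).lTensor A) :=
        Module.Flat.lTensor_preserves_injective_linearMap _ (mul_right_injective₀ hb₀)
      have he : ∀ z, (LinearMap.mulLeft k b₀).lTensor A z = o b₀ * z := fun z => by
        induction z using TensorProduct.induction_on with
        | zero => simp
        | add p q hp hq => rw [map_add, hp, hq, mul_add]
        | tmul p q => simp [o]
      exact hl (by rw [he, he]; exact hxy)
    have h1 : E (o a) * E (o b₀) = E (o b) * E (o a₀) := by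
      rw [← hE, ← hE, ← map_mul, ← map_mul, ha]
    have h2 : E (o a₀) * o b₀ = o a₀ * E (o b₀) := hinv A (u ≫ inv ψ)
    have h3 : o b₀ * E (o a) = o a₀ * E (o b) := by
      have hr : ∀ x y, E (o b₀) * x = E (o b₀) * y → x = y := fun x y hxy => by
        obtain ⟨x', rfl⟩ := E.surjective x
        obtain ⟨y', rfl⟩ := E.surjective y
        rw [← hE, ← hE] at hxy
        rw [hreg (E.injective hxy)]
      refine hr _ _ ?_
      calc E (o b₀) * (o b₀ * E (o a)) = o b₀ * (E (o a) * E (o b₀)) := by ring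
        _ = E (o b) * (E (o a₀) * o b₀) := by rw [h1]; ring
        _ = E (o b₀) * (o a₀ * E (o b)) := by rw [h2]; ring
    refine (Module.Flat.rTensor_exact A (LinearMap.exact_subtype_ker_map (frac (k := k) a₀ b₀)) _).1 ?_
    apply (TensorProduct.comm k (R ⧸ Ideal.span {b₀}) A).injective
    rw [map_zero, ← LinearMap.lTensor_comm]
    rw [show (TensorProduct.comm k R A) (δ b) = E (o b) from (hu b).symm]
    have e : ∀ z : A ⊗[k] R, (frac (k := k) a₀ b₀).lTensor A z =
        Algebra.TensorProduct.map (AlgHom.id k A) (Ideal.Quotient.mkₐ k (Ideal.span {b₀})) (o a₀ * z) := by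
      intro z
      induction z using TensorProduct.induction_on with
      | zero => simp
      | add p q hp hq => rw [map_add, hp, hq, mul_add, map_add]
      | tmul p q => simp [o, frac]
    rw [e, ← h3, map_mul]
    simp [o]
  have hsub : HopfRep.IsSubcomod (k := k) (A := A) V := hstab
  obtain ⟨W, hWfin, hbW, hW⟩ := Groth.L08.exists_finite_subcomod (k := k) (A := A) b₀
  have hb₀V : b₀ ∈ V := (mem_ker_frac a₀ b₀ b₀).2 ⟨a₀, mul_comm _ _⟩
  let W' : Submodule k R := W ⊓ V
  have hW' : HopfRep.IsSubcomod (k := k) (A := A) W' := Groth.L08.isSubcomod_inf hW hsub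
  letI cW : HopfRep.Comod k A W' := ComodSub.Comod.restr cR W' hW'
  haveI : FiniteDimensional k W := hWfin
  haveI : Module.Finite k W' := Submodule.finiteDimensional_of_le inf_le_left
  have hnt : Nontrivial W' := by
    refine ⟨⟨⟨b₀, hbW, hb₀V⟩, 0, ?_⟩⟩
    exact fun h => hb₀ (congrArg Subtype.val h)
  obtain ⟨v, hv, hv0⟩ := (Submodule.ne_bot_iff _).1 (hU W' inferInstance hnt)
  have hfix : δ (v : R) = (v : R) ⊗ₜ[k] (1 : A) := by
    have h := ComodSub.restr_coact_coe cR W' hW' v
    rw [show (cW.coact v : W' ⊗[k] A) = v ⊗ₜ[k] (1 : A) from hv] at h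
    show cR.coact (v : R) = _
    simpa using h.symm
  have hb : (v : R) ∈ ρ.fixedUnder (𝟙 H) := by
    intro B _ _ h
    have := hδ B (h ≫ ψ) (v : R)
    rw [Groth.L25.ComodGMod.T_apply, hfix] at this
    have e : (h ≫ ψ) ≫ inv ψ = h := by simp
    rw [show m.ρ B (h ≫ ψ) ((1 : B) ⊗ₜ[k] (v : R)) = ρ.ρ B ((h ≫ ψ) ≫ inv ψ) ((1 : B) ⊗ₜ[k] (v : R)) from rfl,
      e] at this
    rw [Category.comp_id, this]
    simp
  obtain ⟨a, ha⟩ := (mem_ker_frac a₀ b₀ (v : R)).1 v.2.2
  refine ⟨a, v, ?_, hb, fun h => hv0 (Subtype.ext h), ha⟩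
  intro B _ _ h
  rw [Category.comp_id]
  let o : R →ₐ[k] B ⊗[k] R := Algebra.TensorProduct.includeRight
  let E := ρ.ρ B h
  have hE : ∀ x y, E (x * y) = E x * E y := (hρ B _).1
  have hv' : E (o v) = o v := by
    have := hb B h
    rwa [Category.comp_id] at this
  have hreg : ∀ z : B ⊗[k] R, o b₀ * z = 0 → z = 0 := fun z hz => by
    have hl : Function.Injective ((LinearMap.mulLeft k b₀).lTensor B) :=
      Module.Flat.lTensor_preserves_injective_linearMap _ (mul_right_injective₀ hb₀)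
    have he : ∀ z, (LinearMap.mulLeft k b₀).lTensor B z = o b₀ * z := fun z => by
      induction z using TensorProduct.induction_on with
      | zero => simp
      | add p q hp hq => rw [map_add, hp, hq, mul_add]
      | tmul p q => simp [o]
    exact hl (by rw [he, he, hz, mul_zero])
  have h1 : E (o a) * E (o b₀) = o v * E (o a₀) := by
    rw [← hv', ← hE, ← hE, ← map_mul, ← map_mul, ha]
  have h2 : E (o a₀) * o b₀ = o a₀ * E (o b₀) := hinv B h
  have h3 : o a * o b₀ = o v * o a₀ := by rw [← map_mul, ← map_mul, ha]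
  have h4 : E (o b₀) * (o b₀ * (E (o a) - o a)) = 0 := by
    calc E (o b₀) * (o b₀ * (E (o a) - o a))
        = o b₀ * (E (o a) * E (o b₀)) - E (o b₀) * (o a * o b₀) := by ring
      _ = o v * (E (o a₀) * o b₀ - o a₀ * E (o b₀)) := by rw [h1, h3]; ring
      _ = 0 := by rw [h2]; ring
  show E (o a) = o a
  obtain ⟨w, hw⟩ := E.surjective (o b₀ * (E (o a) - o a))
  have h5 : o b₀ * w = 0 := E.injective (by rw [hE, hw, h4, map_zero])
  have h6 : o b₀ * (E (o a) - o a) = 0 := by rw [← hw, hreg w h5, map_zero]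
  exact sub_eq_zero.1 (hreg _ h6)

end Groth.L15.UnipFrac

end
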